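import Groth.Agent.K0Der.Basic
import Mathlib.CategoryTheory.Abelian.Subcategory

/-!
# K₀ of a thick subcategory and of bounded objects with cohomology in it
-/

set_option backward.isDefEq.respectTransparency false
set_option backward.isDefEq.respectTransparency.types false
set_option linter.style.haveILetI false
set_option linter.unusedSectionVars false
set_option autoImplicit false

universe w v u

open CategoryTheory Limits Pretriangulated ZeroObject
open DerivedCategory.TStructure (t)

namespace Groth.Agent.K0DerSub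

open K0Der (sg sg_succ)
open KZero (clSub K0sub clTr K0tr)

variable {A : Type u} [Category.{v} A] [Abelian A] {P : ObjectProperty A}

theorem clSub_mk {X : A} (h : P X) : clSub P X = QuotientAddGroup.mk (FreeAbelianGroup.of ⟨X, h⟩) :=
  dif_pos h

theorem cl_add {S : ShortComplex A} (hS : S.ShortExact) (h₁ : P S.X₁) (h₂ : P S.X₂) (h₃ : P S.X₃) :
    clSub P S.X₂ = clSub P S.X₁ + clSub P S.X₃ := by
  rw [clSub_mk h₁, clSub_mk h₂, clSub_mk h₃]
  refine eq_add_of_sub_eq' (sub_eq_zero.1 ?_)
  exact (QuotientAddGroup.eq_zero_iff _).2 (AddSubgroup.subset_closure ⟨S, h₁, h₂, h₃, hS, rfl⟩)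

variable [P.IsClosedUnderIsomorphisms] [P.ContainsZero] [P.IsClosedUnderKernels]
  [P.IsClosedUnderCokernels]

theorem mem_of_isZero {Z : A} (hZ : IsZero Z) : P Z := by
  exact P.prop_of_isZero hZ

theorem cl_zero {Z : A} (hZ : IsZero Z) : clSub P Z = 0 := by
  have h := cl_add (P := P) (S := ShortComplex.mk (𝟙 Z) (𝟙 Z) (hZ.eq_of_src _ _))
    { exact := ShortComplex.exact_of_isZero_X₂ _ hZ } (mem_of_isZero hZ) (mem_of_isZero hZ)
    (mem_of_isZero hZ)
  exact left_eq_add.1 h

theorem cl_iso {X Y : A} (e : X ≅ Y) (hX : P X) : clSub P X = clSub P Y := by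
  have h := cl_add (P := P) (S := ShortComplex.mk e.hom (0 : Y ⟶ 0) comp_zero)
    { exact := (ShortComplex.mk e.hom (0 : Y ⟶ 0) comp_zero).exact_iff_epi rfl |>.2 inferInstance
      mono_f := inferInstanceAs (Mono e.hom)
      epi_g := K0Der.cl_iso.epi_of_isZero_target _ (isZero_zero A) }
    hX (P.prop_of_iso e hX) (mem_of_isZero (isZero_zero A))
  rw [cl_zero (isZero_zero A), add_zero] at h
  exact h.symm

theorem mem_image {X Y : A} (f : X ⟶ Y) (hX : P X) (hY : P Y) : P (image f) :=
  P.prop_of_iso (Abelian.imageIsoImage f)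
    (P.prop_kernel (cokernel.π f) hY (P.prop_cokernel f hX hY))

/-- Exactness in the middle splits the class. -/
theorem cl_middle {S : ShortComplex A} (hS : S.Exact) (h₁ : P S.X₁) (h₂ : P S.X₂) (h₃ : P S.X₃) :
    clSub P S.X₂ = clSub P (image S.f) + clSub P (image S.g) := by
  haveI := hS.epi_kernelLift
  have h := cl_add (P := P) (S := ShortComplex.mk (kernel.ι S.g) (factorThruImage S.g)
    (by rw [← cancel_mono (image.ι S.g), Category.assoc, image.fac, kernel.condition, zero_comp]))
    { exact := by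
        apply ShortComplex.exact_of_f_is_kernel
        exact KernelFork.IsLimit.ofι' _ _ fun {T} k hk => ⟨kernel.lift S.g k (by
          rw [← image.fac S.g, reassoc_of% hk, zero_comp]), kernel.lift_ι _ _ _⟩
      mono_f := by dsimp; infer_instance
      epi_g := by dsimp; infer_instance }
    (P.prop_kernel S.g h₂ h₃) h₂ (mem_image S.g h₂ h₃)
  haveI : StrongEpi (kernel.lift S.g S.f S.zero) := strongEpi_of_epi _
  rw [cl_iso (image.isoStrongEpiMono (kernel.lift S.g S.f S.zero) (kernel.ι S.g) (kernel.lift_ι _ _ _))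
    (P.prop_kernel S.g h₂ h₃)] at h
  exact h

theorem cl_image_zero {X Y : A} {f : X ⟶ Y} (hf : f = 0) : clSub P (image f) = 0 := by
  subst hf
  exact cl_zero ((isZero_zero A).of_iso imageZero)

theorem finite_support {c : ℤ → K0sub P} {a b : ℤ} (h : ∀ i, i < a ∨ b < i → c i = 0) :
    (Function.support fun i => sg i • c i).Finite :=
  (Set.finite_Icc a b).subset fun i hi => by
    by_contra hh
    simp only [Set.mem_Icc, not_and_or, not_le] at hh
    exact hi (by simp [h i hh])

variable [HasDerivedCategory.{w} A]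

local notation "Hd" => DerivedCategory.homologyFunctor A

variable (P) in
/-- Bounded objects with cohomology in `P`. -/
abbrev Pb : ObjectProperty (DerivedCategory A) :=
  fun X => (∀ i : ℤ, P ((Hd i).obj X)) ∧ ∃ a b : ℤ, X.IsGE a ∧ X.IsLE b

/-- The Euler characteristic. -/
noncomputable def χ (X : DerivedCategory A) : K0sub P := ∑ᶠ i : ℤ, sg i • clSub P ((Hd i).obj X)

theorem cl_hom_zero {X : DerivedCategory A} {a b : ℤ} [X.IsGE a] [X.IsLE b] (i : ℤ) (hi : i < a ∨ b < i) :
    clSub P ((Hd i).obj X) = 0 :=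
  cl_zero (hi.elim (fun h => DerivedCategory.isZero_of_isGE X a i h) (fun h => DerivedCategory.isZero_of_isLE X b i h))

theorem χ_add (T : Triangle (DerivedCategory A)) (hT : T ∈ Pretriangulated.distinguishedTriangles)
    (h₁ : Pb P T.obj₁) (h₂ : Pb P T.obj₂) (h₃ : Pb P T.obj₃) : χ (P := P) T.obj₂ = χ (P := P) T.obj₁ + χ (P := P) T.obj₃ := by
  obtain ⟨q₁, a₁, b₁, _, _⟩ := h₁
  obtain ⟨q₂, a₂, b₂, _, _⟩ := h₂
  obtain ⟨q₃, a₃, b₃, _, _⟩ := h₃
  let p : ℤ → K0sub P := fun i => clSub P (image ((Hd i).map T.mor₁))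
  let q : ℤ → K0sub P := fun i => clSub P (image ((Hd i).map T.mor₂))
  let r : ℤ → K0sub P := fun i => clSub P (image (DerivedCategory.HomologySequence.δ T i (i + 1) rfl))
  have e₂ : ∀ i, clSub P ((Hd i).obj T.obj₂) = p i + q i := fun i =>
    cl_middle (DerivedCategory.HomologySequence.exact₂ T hT i) (q₁ i) (q₂ i) (q₃ i)
  have e₃ : ∀ i, clSub P ((Hd i).obj T.obj₃) = q i + r i := fun i =>
    cl_middle (DerivedCategory.HomologySequence.exact₃ T hT i (i + 1) rfl) (q₂ i) (q₃ i) (q₁ (i + 1))
  have e₁ : ∀ i, clSub P ((Hd (i + 1)).obj T.obj₁) = r i + p (i + 1) := fun i =>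
    cl_middle (DerivedCategory.HomologySequence.exact₁ T hT i (i + 1) rfl) (q₃ i) (q₁ (i + 1)) (q₂ (i + 1))
  have zp : ∀ i, i < a₁ ∨ b₁ < i → p i = 0 := fun i hi => cl_image_zero
    ((hi.elim (fun h => DerivedCategory.isZero_of_isGE T.obj₁ a₁ i h) (fun h => DerivedCategory.isZero_of_isLE T.obj₁ b₁ i h)).eq_of_src _ _)
  have zq : ∀ i, i < a₂ ∨ b₂ < i → q i = 0 := fun i hi => cl_image_zero
    ((hi.elim (fun h => DerivedCategory.isZero_of_isGE T.obj₂ a₂ i h) (fun h => DerivedCategory.isZero_of_isLE T.obj₂ b₂ i h)).eq_of_src _ _)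
  have zr : ∀ i, i < a₃ ∨ b₃ < i → r i = 0 := fun i hi => cl_image_zero
    ((hi.elim (fun h => DerivedCategory.isZero_of_isGE T.obj₃ a₃ i h) (fun h => DerivedCategory.isZero_of_isLE T.obj₃ b₃ i h)).eq_of_src _ _)
  have fp := finite_support zp
  have fq := finite_support zq
  have fr := finite_support zr
  have fr' : (Function.support fun i => sg i • r (i - 1)).Finite :=
    finite_support (a := a₃ + 1) (b := b₃ + 1) fun i hi => zr _ (hi.imp (by lia) (by lia))
  have E₂ : χ (P := P) T.obj₂ = (∑ᶠ i, sg i • p i) + ∑ᶠ i, sg i • q i := by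
    rw [← finsum_add_distrib fp fq, χ]
    exact finsum_congr fun i => by rw [e₂, smul_add]
  have E₃ : χ (P := P) T.obj₃ = (∑ᶠ i, sg i • q i) + ∑ᶠ i, sg i • r i := by
    rw [← finsum_add_distrib fq fr, χ]
    exact finsum_congr fun i => by rw [e₃, smul_add]
  have E₁ : χ (P := P) T.obj₁ = (∑ᶠ i, sg i • r (i - 1)) + ∑ᶠ i, sg i • p i := by
    rw [← finsum_add_distrib fr' fp, χ]
    refine finsum_congr fun i => ?_
    have := e₁ (i - 1)
    rw [sub_add_cancel] at this
    rw [this, smul_add]
  have E : (∑ᶠ i, sg i • r (i - 1)) = -∑ᶠ i, sg i • r i := by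
    rw [← finsum_neg_distrib, ← finsum_comp_equiv (Equiv.addRight (1 : ℤ))]
    refine finsum_congr fun i => ?_
    simp [sg_succ]
  rw [E₁, E₂, E₃, E]
  abel

theorem mem_single {m : ℤ} {X : A} (hX : P X) (i : ℤ) :
    P ((Hd i).obj ((DerivedCategory.singleFunctor A m).obj X)) := by
  by_cases hi : i = m
  · subst hi
    exact P.prop_of_iso ((DerivedCategory.singleFunctorCompHomologyFunctorIso A i).app X).symm hX
  · rcases lt_or_gt_of_ne hi with h | h
    · exact mem_of_isZero (DerivedCategory.isZero_of_isGE _ m i h)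
    · exact mem_of_isZero (DerivedCategory.isZero_of_isLE _ m i h)

theorem χ_single (m : ℤ) {X : A} (hX : P X) :
    χ ((DerivedCategory.singleFunctor A m).obj X) = sg m • clSub P X := by
  rw [χ, finsum_eq_single _ m fun i hi => by rw [cl_hom_zero (a := m) (b := m) i (by lia), smul_zero]]
  exact congrArg (sg m • ·) (cl_iso ((DerivedCategory.singleFunctorCompHomologyFunctorIso A m).app X)
    (mem_single hX m))

theorem clTr_mk {X : DerivedCategory A} (h : Pb P X) :
    clTr (Pb P) X = QuotientAddGroup.mk (FreeAbelianGroup.of ⟨X, h⟩) := dif_pos h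

theorem clTr_add (T : Triangle (DerivedCategory A)) (hT : T ∈ Pretriangulated.distinguishedTriangles)
    (h₁ : Pb P T.obj₁) (h₂ : Pb P T.obj₂) (h₃ : Pb P T.obj₃) :
    clTr (Pb P) T.obj₂ = clTr (Pb P) T.obj₁ + clTr (Pb P) T.obj₃ := by
  rw [clTr_mk h₁, clTr_mk h₂, clTr_mk h₃]
  refine eq_add_of_sub_eq' (sub_eq_zero.1 ?_)
  exact (QuotientAddGroup.eq_zero_iff _).2 (AddSubgroup.subset_closure ⟨T, h₁, h₂, h₃, hT, rfl⟩)

theorem pb_of_isZero {Z : DerivedCategory A} (hZ : IsZero Z) : Pb P Z :=
  ⟨fun i => mem_of_isZero ((Hd i).map_isZero hZ), 0, 0, t.isGE_of_isZero hZ 0, t.isLE_of_isZero hZ 0⟩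

theorem clTr_zero {Z : DerivedCategory A} (hZ : IsZero Z) : clTr (Pb P) Z = 0 := by
  have e : clTr (Pb P) (0 : DerivedCategory A) = 0 := by
    have := clTr_add (P := P) _ (contractible_distinguished (0 : DerivedCategory A)) (pb_of_isZero (isZero_zero _))
      (pb_of_isZero (isZero_zero _)) (pb_of_isZero (isZero_zero _))
    exact left_eq_add.1 this
  have := clTr_add (P := P) _ (isomorphic_distinguished _ (contractible_distinguished (0 : DerivedCategory A))
    (Triangle.mk (0 : (0 : DerivedCategory A) ⟶ Z) (0 : Z ⟶ 0) 0)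
    (Triangle.isoMk _ _ (Iso.refl _) (hZ.iso (isZero_zero _)) (Iso.refl _)
      ((isZero_zero _).eq_of_src _ _) (hZ.eq_of_src _ _) ((isZero_zero _).eq_of_src _ _)))
    (pb_of_isZero (isZero_zero _)) (pb_of_isZero hZ) (pb_of_isZero (isZero_zero _))
  simpa [e] using this

theorem pb_iso {X Y : DerivedCategory A} (e : X ≅ Y) (h : Pb P X) : Pb P Y := by
  obtain ⟨q, a, b, _, _⟩ := h
  exact ⟨fun i => P.prop_of_iso ((Hd i).mapIso e) (q i), a, b, t.isGE_of_iso e a, t.isLE_of_iso e b⟩

theorem clTr_iso {X Y : DerivedCategory A} (e : X ≅ Y) (h : Pb P X) : clTr (Pb P) X = clTr (Pb P) Y := by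
  have hT : Triangle.mk e.hom (0 : Y ⟶ 0) 0 ∈ Pretriangulated.distinguishedTriangles :=
    isomorphic_distinguished _ (contractible_distinguished X) _
      (Triangle.isoMk _ _ (Iso.refl _) e.symm (Iso.refl _)
        (e.hom_inv_id.trans (Category.id_comp _).symm) ((isZero_zero _).eq_of_tgt _ _) (by simp))
  have := clTr_add _ hT h (pb_iso e h) (pb_of_isZero (isZero_zero _))
  change clTr (Pb P) Y = clTr (Pb P) X + clTr (Pb P) (0 : DerivedCategory A) at this
  rw [clTr_zero (isZero_zero _), add_zero] at this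
  exact this.symm

theorem pb_shift {X : DerivedCategory A} (h : Pb P X) : Pb P (X⟦(1 : ℤ)⟧) := by
  obtain ⟨q, a, b, _, _⟩ := h
  refine ⟨fun i => P.prop_of_iso ((((DerivedCategory.homologyFunctor A 0).shiftIso 1 i (i + 1)
    (add_comm _ _)).app X).symm) (q (i + 1)), ?_⟩
  exact ⟨a - 1, b - 1, t.isGE_shift X a 1 (a - 1) (by lia), t.isLE_shift X b 1 (b - 1) (by lia)⟩

theorem clTr_shift {X : DerivedCategory A} (h : Pb P X) : clTr (Pb P) (X⟦(1 : ℤ)⟧) = -clTr (Pb P) X := by
  have := clTr_add _ (rot_of_distTriang _ (contractible_distinguished X)) h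
    (pb_of_isZero (isZero_zero _)) (pb_shift h)
  change clTr (Pb P) (0 : DerivedCategory A) = clTr (Pb P) X + clTr (Pb P) (X⟦(1 : ℤ)⟧) at this
  rw [clTr_zero (isZero_zero _)] at this
  exact eq_neg_of_add_eq_zero_right this.symm

theorem pb_single (m : ℤ) {X : A} (hX : P X) : Pb P ((DerivedCategory.singleFunctor A m).obj X) :=
  ⟨mem_single hX, m, m, inferInstance, inferInstance⟩

variable (A P) in
/-- `[X] ↦ [X[0]]`. -/
noncomputable def φ : K0sub P →+ K0tr (Pb P) :=
  QuotientAddGroup.lift _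
    (FreeAbelianGroup.lift fun X => clTr (Pb P) ((DerivedCategory.singleFunctor A 0).obj X.1)) (by
    rw [KZero.relSub, AddSubgroup.closure_le]
    rintro _ ⟨S, h₁, h₂, h₃, hS, rfl⟩
    simp only [SetLike.mem_coe, AddMonoidHom.mem_ker, map_sub, FreeAbelianGroup.lift_apply_of]
    have := clTr_add _ hS.singleTriangle_distinguished (pb_single 0 h₁) (pb_single 0 h₂) (pb_single 0 h₃)
    exact sub_sub _ _ _ |>.trans (sub_eq_zero.2 this))

variable (A P) in
/-- The Euler characteristic on K₀ of the triangulated subcategory. -/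
noncomputable def ψ : K0tr (Pb P) →+ K0sub P :=
  QuotientAddGroup.lift _ (FreeAbelianGroup.lift fun X => χ X.1) (by
    rw [KZero.relTr, AddSubgroup.closure_le]
    rintro _ ⟨T, h₁, h₂, h₃, hT, rfl⟩
    simp only [SetLike.mem_coe, AddMonoidHom.mem_ker, map_sub, FreeAbelianGroup.lift_apply_of]
    exact sub_sub _ _ _ |>.trans (sub_eq_zero.2 (χ_add T hT h₁ h₂ h₃)))

theorem φ_cl {X : A} (hX : P X) :
    φ A P (clSub P X) = clTr (Pb P) ((DerivedCategory.singleFunctor A 0).obj X) := by
  rw [clSub_mk hX]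
  simp [φ]

theorem ψφ (x : K0sub P) : ψ A P (φ A P x) = x := by
  obtain ⟨x, rfl⟩ := QuotientAddGroup.mk_surjective x
  induction x using FreeAbelianGroup.induction_on with
  | zero => simp
  | of X =>
    obtain ⟨X, hX⟩ := X
    rw [← clSub_mk hX, φ_cl hX, clTr_mk (pb_single 0 hX)]
    simp only [ψ, QuotientAddGroup.lift_mk, FreeAbelianGroup.lift_apply_of, χ_single 0 hX]
    simp [sg]
  | neg X h =>
    rw [QuotientAddGroup.mk_neg, map_neg, map_neg, h]
  | add a b ha hb => rw [QuotientAddGroup.mk_add, map_add, map_add, ha, hb]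

theorem single_mem (m : ℤ) {X : A} (hX : P X) :
    clTr (Pb P) ((DerivedCategory.singleFunctor A m).obj X) = sg m • φ A P (clSub P X) := by
  let F := fun m : ℤ => clTr (Pb P) ((DerivedCategory.singleFunctor A m).obj X)
  have step : ∀ k : ℤ, F (k + 1) = -F k := fun k => by
    have e := ((DerivedCategory.singleFunctors A).shiftIso 1 k (k + 1) (by lia)).app X
    have h₂ := clTr_iso e (pb_shift (pb_single (k + 1) hX))
    erw [clTr_shift (pb_single (k + 1) hX)] at h₂
    exact neg_eq_iff_eq_neg.1 h₂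
  show F m = _
  induction m using Int.induction_on with
  | zero => simp [F, sg, φ_cl hX]
  | succ k ih => rw [step, ih, sg_succ, neg_smul]
  | pred k ih =>
    have h1 := step (-(k : ℤ) - 1)
    have h2 := sg_succ (-(k : ℤ) - 1)
    rw [sub_add_cancel] at h1 h2
    rw [h2, neg_smul] at ih
    exact neg_injective (h1.symm.trans ih)

theorem mem_range (j : ℕ) : ∀ (X : DerivedCategory A) (a : ℤ), X.IsGE a → X.IsLE (a + j - 1) →
    (∀ i, P ((Hd i).obj X)) → clTr (Pb P) X ∈ (φ A P).range := by
  induction j with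
  | zero =>
    intro X a _ _ _
    rw [clTr_zero (t.isZero X (a + ((0 : ℕ) : ℤ) - 1) a (by simp))]
    exact zero_mem _
  | succ j ih =>
    intro X a hge hle hP
    haveI : X.IsLE (a + j) := by
      rw [show a + (j : ℤ) = a + ((j + 1 : ℕ) : ℤ) - 1 from by push_cast; ring]; exact hle
    let n : ℤ := a + j
    haveI hL : ((t.truncLT n).obj X).IsGE a :=
      (DerivedCategory.isGE_iff _ _).2 fun i hi => by
        haveI := EssConstD.isIso_map_truncLTι X n i (by lia)
        exact (DerivedCategory.isZero_of_isGE X a i hi).of_iso (asIso ((Hd i).map ((t.truncLTι n).app X)))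
    haveI hR : ((t.truncGE n).obj X).IsLE n := inferInstanceAs (t.IsLE ((t.truncGE n).obj X) n)
    haveI : ((t.truncLT n).obj X).IsLE (a + j - 1) := inferInstanceAs (t.IsLE ((t.truncLT n).obj X) (n - 1))
    haveI : ((t.truncGE n).obj X).IsGE n := inferInstanceAs (t.IsGE ((t.truncGE n).obj X) n)
    have pL : ∀ i, P ((Hd i).obj ((t.truncLT n).obj X)) := fun i => by
      by_cases hi : i < n
      · haveI := EssConstD.isIso_map_truncLTι X n i hi
        exact P.prop_of_iso (asIso ((Hd i).map ((t.truncLTι n).app X))).symm (hP i)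
      · exact mem_of_isZero (DerivedCategory.isZero_of_isLE ((t.truncLT n).obj X) (n - 1) i (by lia))
    have pR : ∀ i, P ((Hd i).obj ((t.truncGE n).obj X)) := fun i => by
      by_cases hi : i < n
      · exact mem_of_isZero (DerivedCategory.isZero_of_isGE ((t.truncGE n).obj X) n i hi)
      · haveI := EssConstD.isIso_map_truncGEπ X n i (by lia)
        exact P.prop_of_iso (asIso ((Hd i).map ((t.truncGEπ n).app X))) (hP i)
    have := clTr_add _ (t.triangleLTGE_distinguished n X) ⟨pL, a, a + j - 1, hL, inferInstance⟩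
      ⟨hP, a, a + j, hge, (show X.IsLE (a + j) from inferInstance)⟩ ⟨pR, n, n, inferInstance, hR⟩
    change clTr (Pb P) X = clTr (Pb P) ((t.truncLT n).obj X) + clTr (Pb P) ((t.truncGE n).obj X) at this
    rw [this]
    refine add_mem (ih _ a hL inferInstance pL) ?_
    obtain ⟨Y, ⟨e⟩⟩ := DerivedCategory.exists_iso_singleFunctor_obj_of_isGE_of_isLE ((t.truncGE n).obj X) n
    have hY : P Y := P.prop_of_iso ((Hd n).mapIso e ≪≫
      (DerivedCategory.singleFunctorCompHomologyFunctorIso A n).app Y) (pR n)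
    rw [clTr_iso e ⟨pR, n, n, inferInstance, hR⟩, single_mem n hY]
    exact zsmul_mem (AddMonoidHom.mem_range.2 ⟨_, rfl⟩) _

theorem φ_surjective : Function.Surjective (φ A P) := by
  rw [← AddMonoidHom.range_eq_top, eq_top_iff]
  rintro x -
  obtain ⟨x, rfl⟩ := QuotientAddGroup.mk_surjective x
  induction x using FreeAbelianGroup.induction_on with
  | zero => exact zero_mem _
  | of X =>
    obtain ⟨X, q, a, b, ha, hb⟩ := X
    rw [← clTr_mk (X := X) ⟨q, a, b, ha, hb⟩]
    haveI := hb
    exact mem_range (b + 1 - a).toNat X a ha (t.isLE_of_le X b _ (by omega)) q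
  | neg X h => exact neg_mem h
  | add a b ha hb => exact add_mem ha hb

/-- K₀(P) ≅ K₀ of bounded objects with cohomology in P. -/
theorem exists_equiv (R : ObjectProperty (DerivedCategory A)) (hR : ∀ K, R K ↔ Pb P K) :
    ∃ e : K0sub P ≃+ K0tr R, ∀ X : A, P X →
      e (clSub P X) = clTr R ((DerivedCategory.singleFunctor A 0).obj X) := by
  obtain rfl : R = Pb P := funext fun K => propext (hR K)
  exact ⟨AddEquiv.ofBijective (φ A P) ⟨Function.LeftInverse.injective ψφ, φ_surjective⟩,
    fun X hX => φ_cl hX⟩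


/-- A triangulated-closed property containing the shifted objects of `P` contains all bounded objects
with cohomology in `P`. -/
theorem of_bounded (S : ObjectProperty (DerivedCategory A))
    (hiso : ∀ {X Y : DerivedCategory A}, (X ≅ Y) → S X → S Y)
    (hext : ∀ T : Triangle (DerivedCategory A), T ∈ Pretriangulated.distinguishedTriangles →
      S T.obj₁ → S T.obj₃ → S T.obj₂)
    (hsingle : ∀ (m : ℤ) (X : A), P X → S ((DerivedCategory.singleFunctor A m).obj X))
    (hzero : ∀ {Z : DerivedCategory A}, IsZero Z → S Z) {K : DerivedCategory A} (h : Pb P K) : S K := by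
  have main : ∀ (j : ℕ) (X : DerivedCategory A) (a : ℤ), X.IsGE a → X.IsLE (a + j - 1) →
      (∀ i, P ((Hd i).obj X)) → S X := by
    intro j
    induction j with
    | zero =>
      intro X a _ _ _
      exact hzero (t.isZero X (a + ((0 : ℕ) : ℤ) - 1) a (by simp))
    | succ j ih =>
      intro X a hge hle hP
      haveI : X.IsLE (a + j) := by
        rw [show a + (j : ℤ) = a + ((j + 1 : ℕ) : ℤ) - 1 from by push_cast; ring]; exact hle
      let n : ℤ := a + j
      haveI hL : ((t.truncLT n).obj X).IsGE a :=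
        (DerivedCategory.isGE_iff _ _).2 fun i hi => by
          haveI := EssConstD.isIso_map_truncLTι X n i (by lia)
          exact (DerivedCategory.isZero_of_isGE X a i hi).of_iso (asIso ((Hd i).map ((t.truncLTι n).app X)))
      haveI hR : ((t.truncGE n).obj X).IsLE n := inferInstanceAs (t.IsLE ((t.truncGE n).obj X) n)
      haveI : ((t.truncLT n).obj X).IsLE (a + j - 1) :=
        inferInstanceAs (t.IsLE ((t.truncLT n).obj X) (n - 1))
      haveI : ((t.truncGE n).obj X).IsGE n := inferInstanceAs (t.IsGE ((t.truncGE n).obj X) n)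
      have pL : ∀ i, P ((Hd i).obj ((t.truncLT n).obj X)) := fun i => by
        by_cases hi : i < n
        · haveI := EssConstD.isIso_map_truncLTι X n i hi
          exact P.prop_of_iso (asIso ((Hd i).map ((t.truncLTι n).app X))).symm (hP i)
        · exact mem_of_isZero (DerivedCategory.isZero_of_isLE ((t.truncLT n).obj X) (n - 1) i (by lia))
      refine hext _ (t.triangleLTGE_distinguished n X) (ih _ a hL inferInstance pL) ?_
      change S ((t.truncGE n).obj X)
      obtain ⟨Y, ⟨e⟩⟩ := DerivedCategory.exists_iso_singleFunctor_obj_of_isGE_of_isLE ((t.truncGE n).obj X) n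
      haveI := EssConstD.isIso_map_truncGEπ X n n le_rfl
      refine hiso e.symm (hsingle n Y (P.prop_of_iso (asIso ((Hd n).map ((t.truncGEπ n).app X)) ≪≫
        (Hd n).mapIso e ≪≫ (DerivedCategory.singleFunctorCompHomologyFunctorIso A n).app Y) (hP n)))
  obtain ⟨q, a, b, ha, hb⟩ := h
  exact main (b + 1 - a).toNat K a ha (t.isLE_of_le K b _ (by omega)) q

end Groth.Agent.K0DerSub
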